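import Cfsg.Agent.H849.OZ.Bad_m3
import Cfsg.Agent.H890.SpParity
import Cfsg.Agent.H182.Torus
import Cfsg.Agent.ETable.OrthBase
import Cfsg.Agent.H93.CJ.Pi_m3
import Cfsg.Agent.H383.Cov.PlusC
import Cfsg.Agent.FastGrp
import Cfsg.Agent.Prune
set_option linter.all false

section
prune_inst 0x7fffeffcfab8bddfffff7e7df6bccdfdffbcbfffa6dff94bffe069ff8bdffb0acbe1fb8f0beb58fc1ec3e21418e87bc3f9ffdeffe26bf87ffffdbdf45ffbffcfedf7bd1851d48c340fbc2ffe83f0678e7f3ffffffffcfffffffffffff7ffffbeffbfffffffff

-- part: H530/OZ/Cover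
section
prune_inst 0x300000000000008000000000000000000
set_option linter.all false
open scoped Cfsg.Agent.FastGrp

/-!
# S4842: isolated primes from a central extension (helper530)

* `IsoAt p r S` : `S` has an element `z` of order `r` whose centralizer is a `p'`-group, with `z` a power of every
  `y ∈ C(z)` of order divisible by `r`, centralizers of such `y` of index prime to `r`, and not
  (`C(z) = ⟨z⟩` and `z` conjugate to all its powers of order `r`);
* `isoAt_of_cover` : the criterion for a central extension `π : H →* S`.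
-/

set_option autoImplicit false

namespace Cfsg.Agent.H530.OZ

open Subgroup

/-- The isolated prime `r`. -/
def IsoAt (p r : ℕ) (S : Type*) [Group S] : Prop :=
  ∃ z : S, orderOf z = r ∧ (∀ y, Commute z y → r ∣ orderOf y → z ∈ Subgroup.zpowers y) ∧
    (∀ y, Commute z y → ¬ r ∣ (Subgroup.centralizer ({y} : Set S)).index) ∧
    (∀ y, Commute z y → ¬ p ∣ orderOf y) ∧
    ¬ (Nat.card (Subgroup.centralizer ({z} : Set S)) = r ∧ ∀ m : ℕ, ¬ r ∣ m → IsConj z (z ^ m))

theorem IsoAt.of_equiv {p r : ℕ} {S T : Type*} [Group S] [Group T] (e : S ≃* T) (h : IsoAt p r S) : IsoAt p r T := by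
  obtain ⟨z, h1, h2, h3, h4, h5⟩ := h
  have hcen : ∀ y : T, (Subgroup.centralizer ({e.symm y} : Set S)).map e.toMonoidHom =
      Subgroup.centralizer ({y} : Set T) := by
    intro y
    ext t
    rw [Subgroup.mem_map]
    constructor
    · rintro ⟨s, hs, rfl⟩
      rw [Subgroup.mem_centralizer_singleton_iff] at hs ⊢
      have := congrArg e hs
      rw [map_mul, map_mul, e.apply_symm_apply] at this
      exact this
    · intro ht
      refine ⟨e.symm t, ?_, e.apply_symm_apply t⟩
      rw [Subgroup.mem_centralizer_singleton_iff] at ht ⊢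
      rw [← map_mul, ht, map_mul]
  have hcom : ∀ y : T, Commute (e z) y → Commute z (e.symm y) := by
    intro y hy
    have h6 := hy.map e.symm
    rwa [e.symm_apply_apply] at h6
  refine ⟨e z, ?_, ?_, ?_, ?_, ?_⟩
  · rw [orderOf_injective e.toMonoidHom e.injective z |> (fun h => (show orderOf (e z) = orderOf z from h)), h1]
  · intro y hy hry
    have h6 := h2 _ (hcom y hy) (by
      rwa [orderOf_injective e.symm.toMonoidHom e.symm.injective y |>
        (fun h => (show orderOf (e.symm y) = orderOf y from h))])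
    obtain ⟨k, hk⟩ := Subgroup.mem_zpowers_iff.1 h6
    rw [Subgroup.mem_zpowers_iff]
    refine ⟨k, ?_⟩
    rw [← hk, map_zpow, e.apply_symm_apply]
  · intro y hy
    have h6 := h3 _ (hcom y hy)
    rw [← hcen]
    rwa [Subgroup.index_map_of_bijective e.bijective]
  · intro y hy
    have h6 := h4 _ (hcom y hy)
    rwa [orderOf_injective e.symm.toMonoidHom e.symm.injective y |>
      (fun h => (show orderOf (e.symm y) = orderOf y from h))] at h6
  · rintro ⟨h6, h7⟩
    apply h5
    constructor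
    · rw [← h6, ← hcen, e.symm_apply_apply]
      exact Nat.card_congr (Subgroup.equivMapOfInjective _ e.toMonoidHom e.injective).toEquiv
    · intro m hm
      have h8 := h7 m hm
      rw [← map_pow] at h8
      obtain ⟨c, hc⟩ := isConj_iff.1 h8
      refine isConj_iff.2 ⟨e.symm c, e.injective ?_⟩
      rw [map_mul, map_mul, map_inv, e.apply_symm_apply, hc]

section cover

variable {H S : Type*} [Group H] [Finite H] [Group S] {π : H →* S} {p r c : ℕ}

omit [Finite H] in
/-- Commuting images. -/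
theorem commute_of_map (hcen : ∀ k ∈ π.ker, ∀ h : H, k * h = h * k)
    (hc : ∀ k ∈ π.ker, k ^ c = 1) (hcr : c.Coprime r) {z : H} (hz : orderOf z = r) {y : H}
    (h : Commute (π z) (π y)) : Commute z y := by
  -- `y z y⁻¹ = k z`
  have hk : y * z * y⁻¹ * z⁻¹ ∈ π.ker := by
    rw [MonoidHom.mem_ker, map_mul, map_mul, map_mul, map_inv, map_inv, ← h.eq]
    group
  set k := y * z * y⁻¹ * z⁻¹ with hkdef
  have h1 : y * z * y⁻¹ = k * z := by rw [hkdef]; group
  have h2 : (y * z * y⁻¹) ^ r = 1 := by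
    rw [conj_pow, ← hz, pow_orderOf_eq_one, mul_one, mul_inv_cancel]
  have h3 : k ^ r = 1 := by
    have h4 : Commute k z := hcen k hk z
    rw [h1, h4.mul_pow, ← hz, pow_orderOf_eq_one, mul_one] at h2
    rwa [← hz]
  have h5 : k = 1 := by
    have h6 := orderOf_dvd_of_pow_eq_one (hc k hk)
    have h7 := orderOf_dvd_of_pow_eq_one h3
    have h8 : orderOf k = 1 := Nat.dvd_one.1 (hcr ▸ Nat.dvd_gcd h6 h7)
    exact orderOf_eq_one_iff.1 h8
  rw [h5, one_mul] at h1
  show z * y = y * z
  rw [mul_inv_eq_iff_eq_mul] at h1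
  exact h1.symm

/-- **The criterion.** -/
theorem isoAt_of_cover (hπ : Function.Surjective π) (hr : r.Prime) (hp : p.Prime)
    (hcen : ∀ k ∈ π.ker, ∀ h : H, k * h = h * k)
    (hc : ∀ k ∈ π.ker, k ^ c = 1) (hcr : c.Coprime r) (hcp : c.Coprime p) {z : H} (hz : orderOf z = r)
    {L : Type*} [Field L] (τ : Subgroup.centralizer ({z} : Set H) →* Lˣ)
    (hτ : ∀ x : Subgroup.centralizer ({z} : Set H), (∃ j : ℕ, x ^ (r ^ j) = 1) → τ x = 1 → x = 1)
    (hcomm : ∀ x y : Subgroup.centralizer ({z} : Set H), (∃ j : ℕ, x ^ (r ^ j) = 1) → Commute x y)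
    (hpp : ∀ x : H, Commute z x → x ^ p = 1 → x = 1)
    (hnot : ¬ ((∀ x : H, Commute z x → (π x) ^ r = 1) ∧ ∀ m : ℕ, ¬ r ∣ m → IsConj z (z ^ m))) : IsoAt p r S := by
  classical
  have hfr : Fact r.Prime := ⟨hr⟩
  have hfS : Finite S := Finite.of_surjective π hπ
  have hmem : ∀ {x : H}, x ∈ Subgroup.centralizer ({z} : Set H) ↔ Commute z x := by
    intro x
    rw [Subgroup.mem_centralizer_singleton_iff]
    exact ⟨fun h => h.symm, fun h => h.symm⟩
  have hzz : z ∈ Subgroup.centralizer ({z} : Set H) := hmem.2 (Commute.refl z)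
  -- elements of order dividing `r` in the centralizer
  have hord : ∀ x : H, Commute z x → x ^ r = 1 → x ∈ Subgroup.zpowers z := by
    intro x hx hxr
    set x' : Subgroup.centralizer ({z} : Set H) := ⟨x, hmem.2 hx⟩ with hx'
    set z' : Subgroup.centralizer ({z} : Set H) := ⟨z, hzz⟩ with hz'
    have hz'o : orderOf (τ z') = r := by
      rcases (Nat.dvd_prime hr).1 (orderOf_dvd_of_pow_eq_one (x := τ z') (n := r) (by
        rw [← map_pow]
        have : z' ^ r = 1 := Subtype.ext (by
          show z ^ r = 1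
          rw [← hz, pow_orderOf_eq_one])
        rw [this, map_one])) with h | h
      · exfalso
        have h1 := hτ z' ⟨1, Subtype.ext (by
          show z ^ (r ^ 1) = 1
          rw [pow_one, ← hz, pow_orderOf_eq_one])⟩ (orderOf_eq_one_iff.1 h)
        have h2 : z = 1 := congrArg Subtype.val h1
        rw [h2, orderOf_one] at hz
        exact hr.one_lt.ne hz
      · exact h
    have hprim : IsPrimitiveRoot (τ z' : L) r := by
      rw [← hz'o, ← orderOf_units]
      exact IsPrimitiveRoot.orderOf _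
    have hxr' : ((τ x' : Lˣ) : L) ^ r = 1 := by
      rw [← Units.val_pow_eq_pow_val, ← map_pow]
      have : x' ^ r = 1 := Subtype.ext hxr
      rw [this, map_one, Units.val_one]
    have : NeZero r := ⟨hr.ne_zero⟩
    obtain ⟨i, hi, hi2⟩ := hprim.eq_pow_of_pow_eq_one hxr'
    have h3 : τ (x' * (z' ^ i)⁻¹) = 1 := by
      rw [map_mul, map_inv, map_pow]
      have : τ z' ^ i = τ x' := Units.ext (by rw [Units.val_pow_eq_pow_val]; exact hi2)
      rw [this, mul_inv_cancel]
    have hcx : Commute x' z' := Subtype.ext hx.symm.eq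
    have h4 := hτ (x' * (z' ^ i)⁻¹) ⟨1, by
      have h5 : Commute x' (z' ^ i)⁻¹ := (hcx.pow_right i).inv_right
      rw [pow_one, h5.mul_pow, inv_pow, ← pow_mul, mul_comm i r, pow_mul]
      have h6 : x' ^ r = 1 := Subtype.ext hxr
      have h7 : z' ^ r = 1 := Subtype.ext (by
        show z ^ r = 1
        rw [← hz, pow_orderOf_eq_one])
      rw [h6, h7, one_pow, inv_one, mul_one]⟩ h3
    have h5 : x' = z' ^ i := mul_inv_eq_one.1 h4
    have h6 : x = z ^ i := congrArg Subtype.val h5
    rw [h6]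
    exact Subgroup.npow_mem_zpowers z i
  -- the Sylow subgroup
  have hzP : IsPGroup r (Subgroup.zpowers z) := IsPGroup.of_card (n := 1) (by rw [Nat.card_zpowers, hz, pow_one])
  obtain ⟨R, hR⟩ := hzP.exists_le_sylow
  have hzR : z ∈ (R : Subgroup H) := hR (Subgroup.mem_zpowers z)
  have hz1 : z ≠ 1 := by
    rintro rfl
    rw [orderOf_one] at hz
    exact hr.one_lt.ne hz
  have hRC : (R : Subgroup H) ≤ Subgroup.centralizer ({z} : Set H) := by
    have hnt : Nontrivial (R : Subgroup H) := ⟨⟨⟨z, hzR⟩, 1, fun h => hz1 (congrArg Subtype.val h)⟩⟩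
    have hcnt := R.2.center_nontrivial
    obtain ⟨y, hy⟩ := exists_ne (1 : Subgroup.center (R : Subgroup H))
    -- an element of order `r` in the centre
    have hyo : ∃ j : ℕ, orderOf (y : (R : Subgroup H)) = r ^ (j + 1) := by
      obtain ⟨j, hj⟩ := (IsPGroup.iff_orderOf.1 R.2) (y : (R : Subgroup H))
      rcases j with _ | j
      · exfalso
        rw [pow_zero] at hj
        exact hy (Subtype.ext (orderOf_eq_one_iff.1 hj))
      · exact ⟨j, hj⟩
    obtain ⟨j, hj⟩ := hyo
    set w : (R : Subgroup H) := (y : (R : Subgroup H)) ^ (r ^ j) with hw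
    have hwo : orderOf w = r := by
      rw [hw, orderOf_pow_of_dvd (pow_pos hr.pos j).ne' (by rw [hj]; exact pow_dvd_pow r (Nat.le_succ j)), hj,
        Nat.pow_div (Nat.le_succ j) hr.pos]
      simp
    have hwc : w ∈ Subgroup.center (R : Subgroup H) := Subgroup.pow_mem _ y.2 _
    have hwc' : ∀ t : (R : Subgroup H), t * w = w * t := fun t => (Subgroup.mem_center_iff.1 hwc t)
    have hwz : Commute z (w : H) := by
      have := congrArg Subtype.val (hwc' ⟨z, hzR⟩)
      exact this
    have hw1 : (w : H) ∈ Subgroup.zpowers z := by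
      refine hord _ hwz ?_
      have : w ^ r = 1 := orderOf_dvd_iff_pow_eq_one.1 (dvd_of_eq hwo)
      exact congrArg Subtype.val this
    have hwo' : orderOf (w : H) = r := by rw [Subgroup.orderOf_coe, hwo]
    have hzw : z ∈ Subgroup.zpowers (w : H) := by
      have h1 : Subgroup.zpowers (w : H) ≤ Subgroup.zpowers z := by rwa [Subgroup.zpowers_le]
      have h2 := Subgroup.eq_of_le_of_card_ge h1 (by rw [Nat.card_zpowers, Nat.card_zpowers, hwo', hz])
      rw [h2]
      exact Subgroup.mem_zpowers z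
    intro t ht
    rw [hmem]
    obtain ⟨k, hk⟩ := Subgroup.mem_zpowers_iff.1 hzw
    rw [← hk]
    have h1 : Commute (w : H) t := (congrArg Subtype.val (hwc' ⟨t, ht⟩)).symm
    exact h1.zpow_left k
  have hRr : ∀ x : Subgroup.centralizer ({z} : Set H), (x : H) ∈ (R : Subgroup H) → ∃ j : ℕ, x ^ (r ^ j) = 1 := by
    intro x hx
    obtain ⟨j, hj⟩ := R.2 ⟨x, hx⟩
    have h1 : (x : H) ^ (r ^ j) = 1 := congrArg Subtype.val hj
    exact ⟨j, Subtype.ext h1⟩
  have hRcyc : IsCyclic (R : Subgroup H) := by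
    let f : (R : Subgroup H) →* Lˣ := τ.comp (Subgroup.inclusion hRC)
    have hf : Function.Injective f := by
      rw [injective_iff_map_eq_one]
      intro x hx
      have h1 := hτ (Subgroup.inclusion hRC x) (hRr _ x.2) hx
      have h2 : (x : H) = 1 := congrArg Subtype.val h1
      exact Subtype.ext h2
    let g : (R : Subgroup H) →* L := (Units.coeHom L).comp f
    exact isCyclic_of_injective_ringHom g (fun a b hab => hf (Units.ext hab))
  set R' : Sylow r S := R.mapSurjective hπ with hR'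
  have hR'c : ((R' : Sylow r S) : Subgroup S) = (R : Subgroup H).map π := Sylow.coe_mapSurjective hπ R
  have hR'cyc : IsCyclic (R' : Subgroup S) := by
    rw [hR'c]
    exact isCyclic_of_surjective (π.subgroupMap (R : Subgroup H)) (π.subgroupMap_surjective _)
  -- the order of `π z`
  have hπz : orderOf (π z) = r := by
    rcases (Nat.dvd_prime hr).1 (hz ▸ orderOf_map_dvd π z) with h | h
    · exfalso
      have h1 : π z = 1 := orderOf_eq_one_iff.1 h
      have h2 : z ^ c = 1 := hc z (MonoidHom.mem_ker.2 h1)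
      have h3 : r ∣ c := hz ▸ orderOf_dvd_of_pow_eq_one h2
      exact hr.one_lt.ne' (Nat.dvd_one.1 (hcr ▸ Nat.dvd_gcd h3 dvd_rfl))
    · exact h
  have hC : ∀ y, Commute (π z) y → ∀ t ∈ (R' : Subgroup S), Commute t y := by
    intro y hy t ht
    obtain ⟨y, rfl⟩ := hπ y
    rw [hR'c] at ht
    obtain ⟨t, ht', rfl⟩ := Subgroup.mem_map.1 ht
    have h1 := commute_of_map hcen hc hcr hz hy
    have h2 := hcomm ⟨t, hRC ht'⟩ ⟨y, hmem.2 h1⟩ (hRr ⟨t, hRC ht'⟩ ht')
    have h3 : Commute t y := congrArg Subtype.val h2.eq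
    exact h3.map π
  obtain ⟨h1, h2⟩ := Cfsg.Agent.H732.VZ.central_sylow R' hR'cyc hπz (by
    rw [hR'c]; exact Subgroup.mem_map_of_mem π hzR) hC
  refine ⟨π z, hπz, h1, h2, ?_, ?_⟩
  · intro y hy hpy
    obtain ⟨y, rfl⟩ := hπ y
    obtain ⟨s, hs⟩ := hpy
    have hs0 : s ≠ 0 := by
      rintro rfl
      rw [mul_zero] at hs
      exact (orderOf_pos (π y)).ne' hs
    have h3 : orderOf (π (y ^ s)) = p := by
      rw [map_pow, orderOf_pow_of_dvd hs0 ⟨p, by rw [hs]; ring⟩, hs, Nat.mul_div_cancel _ (Nat.pos_of_ne_zero hs0)]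
    have h4 : Commute z (y ^ s) := (commute_of_map hcen hc hcr hz hy).pow_right s
    have h5 : (y ^ s) ^ p ∈ π.ker := by
      rw [MonoidHom.mem_ker, map_pow]
      nth_rw 1 [← h3]
      exact pow_orderOf_eq_one _
    have h6 : ((y ^ s) ^ c) ^ p = 1 := by
      rw [← pow_mul, mul_comm c p, pow_mul]
      exact hc _ h5
    have h7 := hpp _ (h4.pow_right c) h6
    have h8 : p ∣ c := by
      rw [← h3]
      apply orderOf_dvd_of_pow_eq_one
      rw [← map_pow, h7, map_one]
    exact hp.one_lt.ne' (Nat.dvd_one.1 (hcp ▸ Nat.dvd_gcd h8 dvd_rfl))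
  · rintro ⟨h3, h4⟩
    apply hnot
    constructor
    · intro x hx
      have h5 : π x ∈ Subgroup.centralizer ({π z} : Set S) := by
        rw [Subgroup.mem_centralizer_singleton_iff]
        exact (hx.map π).symm.eq
      have h6 : (⟨π x, h5⟩ : Subgroup.centralizer ({π z} : Set S)) ^ Nat.card (Subgroup.centralizer ({π z} : Set S))
          = 1 := pow_card_eq_one'
      rw [h3] at h6
      exact congrArg Subtype.val h6
    · intro m hm
      obtain ⟨g, hg⟩ := isConj_iff.1 (h4 m hm)
      obtain ⟨g, rfl⟩ := hπ g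
      refine isConj_iff.2 ⟨g, ?_⟩
      have hk : g * z * g⁻¹ * (z ^ m)⁻¹ ∈ π.ker := by
        rw [MonoidHom.mem_ker, map_mul, map_mul, map_mul, map_inv, map_inv, map_pow, hg, mul_inv_cancel]
      set k := g * z * g⁻¹ * (z ^ m)⁻¹ with hkdef
      have h5 : g * z * g⁻¹ = k * z ^ m := by rw [hkdef]; group
      have h6 : (g * z * g⁻¹) ^ r = 1 := by
        rw [conj_pow, ← hz, pow_orderOf_eq_one, mul_one, mul_inv_cancel]
      have h7 : k ^ r = 1 := by
        have h8 : Commute k (z ^ m) := hcen k hk _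
        rw [h5, h8.mul_pow, ← pow_mul, mul_comm m r, pow_mul, ← hz, pow_orderOf_eq_one, one_pow, mul_one] at h6
        rwa [← hz]
      have h8 : k = 1 := by
        have h9 := orderOf_dvd_of_pow_eq_one (hc k hk)
        have h10 := orderOf_dvd_of_pow_eq_one h7
        have h11 : orderOf k = 1 := Nat.dvd_one.1 (hcr ▸ Nat.dvd_gcd h9 h10)
        exact orderOf_eq_one_iff.1 h11
      rw [h5, h8, one_mul]

end cover

end Cfsg.Agent.H530.OZ
end

-- part: H530/OZ/Tori
section
prune_inst 0x30045400000000180000020000042000010000480000080006000008000000000801080000120082004040000000001000000000000000000000000000000000000000000000000000000000000000000000000000000000008000000000000000000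
set_option linter.all false
open scoped Cfsg.Agent.FastGrp

-- part: H530/OZ/Orth
section
/-!
# S4842: isolated primes of orthogonal groups (helper530)

The space `U × P`, `dim P = 0` or `2`, `z` acting on `U` with a centralizer embedded in the multiplicative group
of a field `L` (`TorU`) and trivially on `P`.

* `iso_orth` : the prime `r = o(z)` is isolated in the image of `E (prodForm Q Q')`.
-/

set_option autoImplicit false

namespace Cfsg.Agent.H530.OZ

open Module QuadraticMap Cfsg Subgroup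
open Cfsg.Agent.LieClassical.OrthCore Cfsg.Agent.LieClassical.OrthTrans Cfsg.Agent.H890.SpParity
open Cfsg.Agent.H182.Sign

section lin

variable {F : Type*} [Field F] {U P L : Type*} [AddCommGroup U] [Module F U] [AddCommGroup P] [Module F P]
  [Field L] [Algebra F L]

/-- eigenvalues of endomorphisms -/
theorem root_charpoly [FiniteDimensional F U] (f : Module.End F U) (y : L) (j : L →ₗ[F] U)
    (hj : Function.Injective j) (h : ∀ l, f (j l) = j (y * l)) : Polynomial.aeval y f.charpoly = 0 := by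
  have hpow : ∀ (k : ℕ) (l : L), (f ^ k) (j l) = j (y ^ k * l) := by
    intro k
    induction k with
    | zero => intro l; simp
    | succ k ih =>
      intro l
      rw [pow_succ, Module.End.mul_apply, h, ih, pow_succ, mul_assoc]
  have key : ∀ (p : Polynomial F) (l : L), (Polynomial.aeval f p) (j l) = j (Polynomial.aeval y p * l) := by
    intro p
    induction p using Polynomial.induction_on' with
    | add p q hp hq =>
      intro l
      rw [map_add, LinearMap.add_apply, hp, hq, map_add, add_mul, map_add]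
    | monomial n a =>
      intro l
      rw [Polynomial.aeval_monomial, Polynomial.aeval_monomial, Module.End.mul_apply, hpow,
        Module.algebraMap_end_apply, mul_assoc, ← Algebra.smul_def, map_smul]
  have h1 := key f.charpoly 1
  rw [LinearMap.aeval_self_charpoly, LinearMap.zero_apply, mul_one] at h1
  apply hj
  rw [← h1, map_zero]

/-- If all the powers of an eigenvalue of order `r` are eigenvalues then `r ≤ dim + 1`. -/
theorem le_of_roots [FiniteDimensional F U] (f : Module.End F U) {r : ℕ} {y : L} (hy : orderOf y = r)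
    (h : ∀ m : ℕ, 0 < m → m < r → Polynomial.aeval (y ^ m) f.charpoly = 0) : r ≤ finrank F U + 1 := by
  classical
  rcases Nat.eq_zero_or_pos r with hr | hr
  · omega
  have h1 : f.charpoly ≠ 0 := (LinearMap.charpoly_monic f).ne_zero
  have h2 : ((Finset.Ioo 0 r).image fun m : ℕ => y ^ m).card ≤ f.charpoly.natDegree := by
    rw [← Polynomial.natDegree_map (algebraMap F L)]
    refine Polynomial.card_le_degree_of_subset_roots ?_
    intro x hx
    rw [Finset.mem_val, Finset.mem_image] at hx
    obtain ⟨m, hm, rfl⟩ := hx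
    rw [Finset.mem_Ioo] at hm
    rw [Polynomial.mem_roots_map h1, ← Polynomial.aeval_def]
    exact h m hm.1 hm.2
  rw [Finset.card_image_of_injOn, Nat.card_Ioo, LinearMap.charpoly_natDegree] at h2
  · omega
  · intro a ha b hb hab
    rw [Finset.mem_coe, Finset.mem_Ioo] at ha hb
    exact pow_injOn_Iio_orderOf (by rw [Set.mem_Iio, hy]; exact ha.2) (by rw [Set.mem_Iio, hy]; exact hb.2) hab

/-- The block decomposition. -/
theorem block [FiniteDimensional F U] [FiniteDimensional F P] {z : U ≃ₗ[F] U} (hz : ∀ v, z v = v → v = 0)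
    {g : (U × P) ≃ₗ[F] (U × P)} (hc : Commute g (z.prodCongr (LinearEquiv.refl F P))) :
    ∃ (t : U ≃ₗ[F] U) (s : P ≃ₗ[F] P), g = t.prodCongr s := by
  have hcc : ∀ (u : U) (p : P), g (z u, p) = (z (g (u, p)).1, (g (u, p)).2) := fun u p =>
    LinearEquiv.congr_fun hc.eq (u, p)
  have h1 : ∀ p : P, (g (0, p)).1 = 0 := by
    intro p
    have := congrArg Prod.fst (hcc 0 p)
    rw [map_zero] at this
    exact hz _ this.symm
  have h2 : ∀ u : U, (g (u, 0)).2 = 0 := by
    intro u
    obtain ⟨v, hv⟩ : ∃ v, z v - v = u := by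
      have hinj : Function.Injective ((z.toLinearMap - LinearMap.id : U →ₗ[F] U)) := by
        rw [injective_iff_map_eq_zero]
        intro v hv
        exact hz v (sub_eq_zero.1 hv)
      exact (LinearMap.injective_iff_surjective.1 hinj) u
    have h3 : ((u, 0) : U × P) = (z v, 0) - (v, 0) := by
      rw [Prod.mk_sub_mk, hv, sub_zero]
    rw [h3, map_sub, hcc]
    exact sub_self _
  have hg : ∀ (u : U) (p : P), g (u, p) = ((g (u, 0)).1, (g (0, p)).2) := by
    intro u p
    have h3 : ((u, p) : U × P) = (u, 0) + (0, p) := by simp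
    rw [h3, map_add]
    refine Prod.ext ?_ ?_
    · show (g (u, 0)).1 + (g (0, p)).1 = (g (u, 0)).1
      rw [h1, add_zero]
    · show (g (u, 0)).2 + (g (0, p)).2 = (g (0, p)).2
      rw [h2, zero_add]
  let t : U →ₗ[F] U := (LinearMap.fst F U P).comp (g.toLinearMap.comp (LinearMap.inl F U P))
  let s : P →ₗ[F] P := (LinearMap.snd F U P).comp (g.toLinearMap.comp (LinearMap.inr F U P))
  have ht : Function.Injective t := by
    rw [injective_iff_map_eq_zero]
    intro u hu
    have h3 : g (u, 0) = 0 := Prod.ext hu (h2 u)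
    rw [LinearEquiv.map_eq_zero_iff] at h3
    exact congrArg Prod.fst h3
  have hs : Function.Injective s := by
    rw [injective_iff_map_eq_zero]
    intro p hp
    have h3 : g (0, p) = 0 := Prod.ext (h1 p) hp
    rw [LinearEquiv.map_eq_zero_iff] at h3
    exact congrArg Prod.snd h3
  refine ⟨LinearEquiv.ofInjectiveEndo t ht, LinearEquiv.ofInjectiveEndo s hs, ?_⟩
  ext p
  · exact congrArg Prod.fst (hg p.1 p.2)
  · exact congrArg Prod.snd (hg p.1 p.2)

/-- An element of `p`-power order without ... of a plane -/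
theorem eq_one_of_even [FiniteDimensional F P] {p : ℕ} [Fact p.Prime] [CharP F p] (hP : finrank F P = 0 ∨ finrank F P = 2)
    {s : P ≃ₗ[F] P} (hs : s ^ p = 1) (he : Even (finrank F (fix s))) : s = 1 := by
  have key : fix s = ⊤ → s = 1 := by
    intro h
    ext v
    have : v ∈ fix s := by rw [h]; exact Submodule.mem_top
    exact mem_fix.1 this
  apply key
  rcases hP with h0 | h2
  · have : Subsingleton P := Module.finrank_zero_iff.1 h0
    exact Subsingleton.elim _ _
  · have hle := Submodule.finrank_le (fix s)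
    rw [h2] at hle
    have hne : finrank F (fix s) ≠ 0 := by
      intro h0
      rw [Submodule.finrank_eq_zero] at h0
      have h1 : ((s.toLinearMap : Module.End F P) - 1) ^ p = 0 := by
        have hcp : CharP (Module.End F P) p := by
          have : Nontrivial P := Module.nontrivial_of_finrank_pos (R := F) (by omega)
          exact charP_of_injective_algebraMap (algebraMap F (Module.End F P)).injective p
        rw [sub_pow_char_of_commute p (Commute.one_right _), one_pow, sub_eq_zero]
        have h3 : ∀ k : ℕ, ((s ^ k : P ≃ₗ[F] P)).toLinearMap = (s.toLinearMap : Module.End F P) ^ k := by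
          intro k
          induction k with
          | zero => rfl
          | succ k ih => rw [pow_succ, pow_succ, ← ih]; rfl
        rw [← h3, hs]
        rfl
      have h3 : Function.Injective (((s.toLinearMap : Module.End F P) - 1 : Module.End F P) : P → P) :=
        LinearMap.ker_eq_bot.1 h0
      have h4 : Function.Injective ((((s.toLinearMap : Module.End F P) - 1) ^ p : Module.End F P) : P → P) := by
        rw [Module.End.coe_pow]
        exact h3.iterate p
      rw [h1] at h4
      have : Nontrivial P := Module.nontrivial_of_finrank_pos (R := F) (by omega)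
      obtain ⟨v, hv⟩ := exists_ne (0 : P)
      exact hv (h4 rfl)
    obtain ⟨k, hk⟩ := he
    exact Submodule.eq_top_of_finrank_eq (by omega)

/-- An element of `r`-power order of a plane. -/
theorem eq_one_of_order [Finite F] [Finite P] {r : ℕ} (hr : r.Prime) (hP : finrank F P ≤ 2)
    (hq : ¬ r ∣ Nat.card F) (hq1 : ¬ r ∣ Nat.card F - 1) (hq2 : ¬ r ∣ Nat.card F ^ 2 - 1)
    {s : P ≃ₗ[F] P} (hs : ∃ j : ℕ, s ^ (r ^ j) = 1) : s = 1 := by
  have := Fact.mk hr
  have hfd : FiniteDimensional F P := Module.Finite.of_finite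
  obtain ⟨j, hj⟩ := hs
  have hrP : IsPGroup r (Subgroup.zpowers s) := by
    intro x
    obtain ⟨k, hk⟩ := Subgroup.mem_zpowers_iff.1 x.2
    refine ⟨j, Subtype.ext ?_⟩
    show (x : P ≃ₗ[F] P) ^ r ^ j = 1
    rw [← hk, ← zpow_natCast, ← zpow_mul, mul_comm, zpow_mul, zpow_natCast, hj, one_zpow]
  have h1 := hrP.card_modEq_card_fixedPoints P
  have h2 : Nat.card (MulAction.fixedPoints (Subgroup.zpowers s) P) = Nat.card (fix s) := by
    refine Nat.card_congr (Equiv.subtypeEquivRight fun v => ?_)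
    rw [MulAction.mem_fixedPoints]
    show _ ↔ v ∈ fix s
    rw [mem_fix]
    constructor
    · intro h
      exact h ⟨s, Subgroup.mem_zpowers s⟩
    · intro h x
      obtain ⟨k, hk⟩ := Subgroup.mem_zpowers_iff.1 x.2
      show (x : P ≃ₗ[F] P) v = v
      rw [← hk]
      have h3 : s ∈ MulAction.stabilizer (P ≃ₗ[F] P) v := h
      exact (MulAction.stabilizer (P ≃ₗ[F] P) v).zpow_mem h3 k
  rw [h2, Module.natCard_eq_pow_finrank (K := F) (V := P), Module.natCard_eq_pow_finrank (K := F) (V := fix s)] at h1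
  have hle := Submodule.finrank_le (fix s)
  have hF : 0 < Nat.card F := Nat.card_pos
  have h3 : finrank F (fix s) = finrank F P := by
    by_contra hne
    have hlt : finrank F (fix s) < finrank F P := lt_of_le_of_ne hle hne
    obtain ⟨i, hi⟩ : ∃ i, finrank F P = finrank F (fix s) + i := ⟨finrank F P - finrank F (fix s), by omega⟩
    have h4 : r ∣ Nat.card F ^ finrank F P - Nat.card F ^ finrank F (fix s) :=
      (Nat.modEq_iff_dvd' (Nat.pow_le_pow_right hF hle)).1 h1.symm
    rw [hi, pow_add, ← Nat.mul_sub_one] at h4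
    rcases (Nat.Prime.dvd_mul hr).1 h4 with h5 | h5
    · exact hq (hr.dvd_of_dvd_pow h5)
    · have hi' : i = 1 ∨ i = 2 := by omega
      rcases hi' with rfl | rfl
      · rw [pow_one] at h5; exact hq1 h5
      · exact hq2 h5
  have h4 : fix s = ⊤ := Submodule.eq_top_of_finrank_eq h3
  ext v
  have : v ∈ fix s := by rw [h4]; exact Submodule.mem_top
  exact mem_fix.1 this

end lin

/-- A torus element of the isometry group of `Q` on `U`. -/
structure TorU {F U L : Type*} [Field F] [AddCommGroup U] [Module F U] [Field L] [Algebra F L]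
    (Q : QuadraticForm F U) (r : ℕ) (z : U ≃ₗ[F] U) (j : L →ₗ[F] U) (lam : L) : Prop where
  inj : Function.Injective j
  memO : z ∈ O Q
  eig : ∀ l, z (j l) = j (lam * l)
  ord : orderOf lam = r
  cen : ∀ t ∈ O Q, Commute t z → ∃ a : L, (∀ l, t (j l) = j (a * l)) ∧ (a = 1 → t = 1) ∧
    (a ≠ 1 → ∀ v, t v = v → v = 0)

section main

variable {F : Type*} [Field F] [Finite F] {U P L : Type*} [AddCommGroup U] [Module F U] [Finite U] [AddCommGroup P]
  [Module F P] [Finite P] [Field L] [Algebra F L] {Q : QuadraticForm F U} {Q' : QuadraticForm F P}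
  {r : ℕ} {z : U ≃ₗ[F] U} {j : L →ₗ[F] U} {lam : L}

omit [Finite F] [Finite U] in
theorem TorU.fix_eq (hT : TorU Q r z j lam) (hr : 1 < r) (v : U) (hv : z v = v) : v = 0 := by
  obtain ⟨a, ha, -, ha2⟩ := hT.cen z hT.memO (Commute.refl z)
  refine ha2 ?_ v hv
  rintro rfl
  have h1 := (hT.eig 1).symm.trans (ha 1)
  have h2 := hT.inj h1
  rw [mul_one, mul_one] at h2
  have h3 := hT.ord
  rw [h2, orderOf_one] at h3
  omega

omit [Finite F] [Finite U] in
theorem TorU.pow_eq (hT : TorU Q r z j lam) : z ^ r = 1 := by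
  obtain ⟨a, ha, ha1, -⟩ := hT.cen (z ^ r) ((O Q).pow_mem hT.memO r) ((Commute.refl z).pow_left r)
  apply ha1
  have hpow : ∀ (k : ℕ) (l : L), (z ^ k) (j l) = j (lam ^ k * l) := by
    intro k
    induction k with
    | zero => intro l; simp
    | succ k ih =>
      intro l
      rw [pow_succ, LinearEquiv.mul_apply, hT.eig, ih, pow_succ, mul_assoc]
  have h1 := (hpow r 1).symm.trans (ha 1)
  have h2 := hT.inj h1
  rw [mul_one, mul_one, ← hT.ord, pow_orderOf_eq_one] at h2
  exact h2.symm

omit [Finite F] [Finite U] in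
theorem TorU.comm (hT : TorU Q r z j lam) {t t' : U ≃ₗ[F] U} (ht : t ∈ O Q) (ht' : t' ∈ O Q) (hc : Commute t z)
    (hc' : Commute t' z) : Commute t t' := by
  obtain ⟨a, ha, -, -⟩ := hT.cen t ht hc
  obtain ⟨a', ha', -, -⟩ := hT.cen t' ht' hc'
  set c := t * t' * (t' * t)⁻¹ with hcdef
  have hcO : c ∈ O Q := (O Q).mul_mem ((O Q).mul_mem ht ht') ((O Q).inv_mem ((O Q).mul_mem ht' ht))
  have hcz : Commute c z := (hc.mul_left hc').mul_left (hc'.mul_left hc).inv_left
  obtain ⟨b, hb, hb1, -⟩ := hT.cen c hcO hcz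
  have h1 : c * (t' * t) = t * t' := by rw [hcdef, inv_mul_cancel_right]
  have h2 : c (t' (t (j 1))) = t (t' (j 1)) := LinearEquiv.congr_fun h1 (j 1)
  rw [ha, ha', hb, ha', ha] at h2
  have h3 := hT.inj h2
  have ha0 : a ≠ 0 := by
    rintro rfl
    have h4 := ha 1
    rw [zero_mul, map_zero, LinearEquiv.map_eq_zero_iff] at h4
    exact one_ne_zero (hT.inj (h4.trans (map_zero j).symm))
  have ha0' : a' ≠ 0 := by
    rintro rfl
    have h4 := ha' 1
    rw [zero_mul, map_zero, LinearEquiv.map_eq_zero_iff] at h4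
    exact one_ne_zero (hT.inj (h4.trans (map_zero j).symm))
  have h5 : b = 1 := by
    have h6 : (b - 1) * (a * a') = 0 := by linear_combination h3
    exact sub_eq_zero.1 ((mul_eq_zero.1 h6).resolve_right (mul_ne_zero ha0 ha0'))
  rw [hb1 h5, one_mul] at h1
  exact h1.symm

/-- The extension of `z` by the identity. -/
def zz (P : Type*) [AddCommGroup P] [Module F P] (z : U ≃ₗ[F] U) : (U × P) ≃ₗ[F] (U × P) :=
  z.prodCongr (LinearEquiv.refl F P)

omit [Finite F] [Finite U] [Finite P] in
theorem zz_pow (k : ℕ) : zz P z ^ k = zz P (z ^ k) := by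
  induction k with
  | zero => rfl
  | succ k ih => rw [pow_succ, ih, pow_succ]; rfl

theorem zz_mem_O (hz : z ∈ O Q) : zz P z ∈ O (prodForm Q Q') := by
  intro v
  rw [prodForm_apply, prodForm_apply]
  show Q (z v.1) + Q' v.2 = _
  rw [hz]

/-- **Isolated primes in orthogonal groups.** -/
theorem iso_orth {p : ℕ} [Fact p.Prime] [CharP F p] (hr : r.Prime) (hT : TorU Q r z j lam)
    (hnd : Nondeg (prodForm Q Q')) (hP : finrank F P = 0 ∨ finrank F P = 2)
    (hq : ¬ r ∣ Nat.card F) (hq1 : ¬ r ∣ Nat.card F - 1) (hq2 : ¬ r ∣ Nat.card F ^ 2 - 1)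
    (hzE : zz P z ∈ E (prodForm Q Q')) {S : Type*} [Group S] (π : E (prodForm Q Q') →* S)
    (hπ : Function.Surjective π)
    (hker : ∀ k : E (prodForm Q Q'), k ∈ π.ker ↔ ∃ a : F, ∀ v, (k : (U × P) ≃ₗ[F] (U × P)) v = a • v)
    (hnot : ¬ ((∀ x : E (prodForm Q Q'), Commute (⟨zz P z, hzE⟩ : E (prodForm Q Q')) x → (π x) ^ r = 1) ∧
      r ≤ finrank F (U × P) + 1)) : IsoAt p r S := by
  classical
  have hfr : Fact r.Prime := ⟨hr⟩
  have hfdU : FiniteDimensional F U := Module.Finite.of_finite
  have hfdP : FiniteDimensional F P := Module.Finite.of_finite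
  have hfin : Finite (E (prodForm Q Q')) := by
    have : Finite ((U × P) ≃ₗ[F] (U × P)) :=
      Finite.of_injective (fun g : (U × P) ≃ₗ[F] (U × P) => (g : U × P → U × P)) DFunLike.coe_injective
    infer_instance
  have hchL : CharP L p := charP_of_injective_algebraMap (algebraMap F L).injective p
  have hr2 : r ≠ 2 := by
    rintro rfl
    rcases Nat.even_or_odd (Nat.card F) with h | h
    · exact hq h.two_dvd
    · exact hq1 ((Nat.Odd.sub_odd h odd_one).two_dvd)
  set z' : E (prodForm Q Q') := ⟨zz P z, hzE⟩ with hz'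
  have hfix := hT.fix_eq hr.one_lt
  -- the order of `z'`
  have hU1 : ∃ v : U, v ≠ 0 := ⟨j 1, fun h => one_ne_zero (hT.inj (h.trans (map_zero j).symm))⟩
  have hz'r : z' ^ r = 1 := by
    apply Subtype.ext
    show zz P z ^ r = 1
    rw [zz_pow, hT.pow_eq]
    rfl
  have hz'1 : z' ≠ 1 := by
    intro h
    obtain ⟨v, hv⟩ := hU1
    apply hv
    apply hfix
    have h1 : zz P z = 1 := congrArg Subtype.val h
    exact congrArg Prod.fst (LinearEquiv.congr_fun h1 (v, 0))
  have hz'o : orderOf z' = r := orderOf_eq_prime hz'r hz'1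
  have hmem : ∀ {x : E (prodForm Q Q')}, x ∈ Subgroup.centralizer ({z'} : Set (E (prodForm Q Q'))) ↔ Commute z' x := by
    intro x
    rw [Subgroup.mem_centralizer_singleton_iff]
    exact ⟨fun h => h.symm, fun h => h.symm⟩
  -- the blocks
  have hblock : ∀ x : E (prodForm Q Q'), Commute z' x → ∃ (t : U ≃ₗ[F] U) (s : P ≃ₗ[F] P),
      (x : (U × P) ≃ₗ[F] (U × P)) = t.prodCongr s ∧ t ∈ O Q ∧ Commute t z := by
    intro x hx
    have h1 : Commute (x : (U × P) ≃ₗ[F] (U × P)) (z.prodCongr (LinearEquiv.refl F P)) :=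
      (congrArg Subtype.val hx.eq).symm
    obtain ⟨t, s, hts⟩ := block hfix h1
    refine ⟨t, s, hts, ?_, ?_⟩
    · intro v
      have h2 := E_le_O x.2 (v, 0)
      rw [hts, prodForm_apply, prodForm_apply] at h2
      change Q (t v) + Q' (s 0) = Q v + Q' 0 at h2
      rw [map_zero, QuadraticMap.map_zero, add_zero, add_zero] at h2
      exact h2
    · ext v
      have h2 := LinearEquiv.congr_fun h1.eq (v, 0)
      rw [hts] at h2
      exact congrArg Prod.fst h2
  choose! tt ss hts htO htz using hblock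
  -- powers
  have hpw : ∀ (x : E (prodForm Q Q')), Commute z' x → ∀ k : ℕ, x ^ k = 1 → tt x ^ k = 1 ∧ ss x ^ k = 1 := by
    intro x hx k hk
    have h1 : (x : (U × P) ≃ₗ[F] (U × P)) ^ k = 1 := congrArg Subtype.val hk
    have h2 : ∀ k : ℕ, (x : (U × P) ≃ₗ[F] (U × P)) ^ k = (tt x ^ k).prodCongr (ss x ^ k) := by
      intro k
      induction k with
      | zero => rfl
      | succ k ih =>
        rw [pow_succ, ih, hts x hx]
        rfl
    rw [h2] at h1
    constructor
    · ext v
      exact congrArg Prod.fst (LinearEquiv.congr_fun h1 (v, 0))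
    · ext v
      exact congrArg Prod.snd (LinearEquiv.congr_fun h1 (0, v))
  have hex : ∀ x : E (prodForm Q Q'), Commute z' x → ∃ a : L, (∀ l, tt x (j l) = j (a * l)) ∧ (a = 1 → tt x = 1) ∧
      (a ≠ 1 → ∀ v, tt x v = v → v = 0) := fun x hx => hT.cen _ (htO x hx) (htz x hx)
  choose! aa haa haa1 haa2 using hex
  have haa0 : ∀ x : E (prodForm Q Q'), Commute z' x → aa x ≠ 0 := by
    intro x hx h0
    have h4 := haa x hx 1
    rw [h0, zero_mul, map_zero, LinearEquiv.map_eq_zero_iff] at h4
    exact one_ne_zero (hT.inj (h4.trans (map_zero j).symm))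
  have hmul : ∀ x y : E (prodForm Q Q'), Commute z' x → Commute z' y → tt (x * y) = tt x * tt y := by
    intro x y hx hy
    ext v
    have h1 := hts (x * y) (hx.mul_right hy)
    have h2 : ((x * y : E (prodForm Q Q')) : (U × P) ≃ₗ[F] (U × P)) = (x : (U × P) ≃ₗ[F] (U × P)) * y := rfl
    rw [h2, hts x hx, hts y hy] at h1
    exact (congrArg Prod.fst (LinearEquiv.congr_fun h1 (v, 0))).symm
  have hamul : ∀ x y : E (prodForm Q Q'), Commute z' x → Commute z' y → aa (x * y) = aa x * aa y := by
    intro x y hx hy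
    have h1 := haa (x * y) (hx.mul_right hy) 1
    rw [hmul x y hx hy, LinearEquiv.mul_apply, haa y hy, haa x hx] at h1
    have h2 := hT.inj h1
    rw [mul_one, mul_one] at h2
    exact h2.symm
  let τ : Subgroup.centralizer ({z'} : Set (E (prodForm Q Q'))) →* Lˣ :=
    MonoidHom.mk' (fun x => Units.mk0 (aa x) (haa0 x (hmem.1 x.2))) (fun x y => Units.ext (by
      show aa (x * y : E (prodForm Q Q')) = aa x * aa y
      exact hamul _ _ (hmem.1 x.2) (hmem.1 y.2)))
  have hss : ∀ x : E (prodForm Q Q'), Commute z' x → (∃ i : ℕ, x ^ (r ^ i) = 1) → ss x = 1 := by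
    rintro x hx ⟨i, hi⟩
    exact eq_one_of_order (F := F) hr (by omega) hq hq1 hq2 ⟨i, (hpw x hx _ hi).2⟩
  have hone : ∀ x : E (prodForm Q Q'), Commute z' x → tt x = 1 → ss x = 1 → x = 1 := by
    intro x hx h1 h2
    apply Subtype.ext
    rw [hts x hx, h1, h2]
    rfl
  -- the kernel
  have hkc : ∀ k ∈ π.ker, ∀ h : E (prodForm Q Q'), k * h = h * k := by
    intro k hk h
    obtain ⟨a, ha⟩ := (hker k).1 hk
    apply Subtype.ext
    ext v
    · show ((k : (U × P) ≃ₗ[F] (U × P)) ((h : (U × P) ≃ₗ[F] (U × P)) v)).1 = _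
      rw [ha]
      show _ = ((h : (U × P) ≃ₗ[F] (U × P)) ((k : (U × P) ≃ₗ[F] (U × P)) v)).1
      rw [ha, map_smul]
    · show ((k : (U × P) ≃ₗ[F] (U × P)) ((h : (U × P) ≃ₗ[F] (U × P)) v)).2 = _
      rw [ha]
      show _ = ((h : (U × P) ≃ₗ[F] (U × P)) ((k : (U × P) ≃ₗ[F] (U × P)) v)).2
      rw [ha, map_smul]
  have hk2 : ∀ k ∈ π.ker, (k ^ 2 = 1) ∧ (p = 2 → k = 1) := by
    intro k hk
    obtain ⟨a, ha⟩ := (hker k).1 hk
    -- a vector with nonzero value
    obtain ⟨w, hw⟩ : ∃ w : U × P, prodForm Q Q' w ≠ 0 := by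
      by_contra hcon
      push Not at hcon
      obtain ⟨v, hv⟩ := hU1
      apply hv
      have h1 : ((v, 0) : U × P) = 0 := hnd _ fun y => by
        rw [QuadraticMap.polar, hcon, hcon, hcon, sub_zero, sub_zero]
      exact congrArg Prod.fst h1
    have h1 := E_le_O k.2 w
    rw [ha, QuadraticMap.map_smul, smul_eq_mul] at h1
    have h2 : a * a = 1 := by
      apply mul_right_cancel₀ hw
      rw [h1, one_mul]
    constructor
    · apply Subtype.ext
      show (k : (U × P) ≃ₗ[F] (U × P)) ^ 2 = 1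
      ext v
      · rw [pow_two, LinearEquiv.mul_apply, ha, ha, smul_smul, h2, one_smul]
        rfl
      · rw [pow_two, LinearEquiv.mul_apply, ha, ha, smul_smul, h2, one_smul]
        rfl
    · rintro rfl
      have h3 : a = 1 := by
        have h4 : (a - 1) ^ 2 = 0 := by
          rw [sub_pow_char, one_pow, pow_two, h2, sub_self]
        exact sub_eq_zero.1 (pow_eq_zero_iff two_ne_zero |>.1 h4)
      apply Subtype.ext
      ext v
      · rw [ha, h3, one_smul]
        rfl
      · rw [ha, h3, one_smul]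
        rfl
  set c : ℕ := if p = 2 then 1 else 2 with hcdef
  have hcc : ∀ k ∈ π.ker, k ^ c = 1 := by
    intro k hk
    rw [hcdef]
    split_ifs with hp2
    · rw [pow_one]; exact (hk2 k hk).2 hp2
    · exact (hk2 k hk).1
  have hpp : p.Prime := Fact.out
  have hcr : c.Coprime r := by
    rw [hcdef]
    split_ifs with hp2
    · exact Nat.coprime_one_left r
    · exact (Nat.coprime_primes Nat.prime_two hr).2 (Ne.symm hr2)
  have hcp : c.Coprime p := by
    rw [hcdef]
    split_ifs with hp2
    · exact Nat.coprime_one_left p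
    · exact (Nat.coprime_primes Nat.prime_two hpp).2 (Ne.symm hp2)
  refine isoAt_of_cover (c := c) (z := z') hπ hr hpp hkc hcc hcr hcp hz'o τ ?_ ?_ ?_ ?_
  · rintro x ⟨i, hi⟩ hx
    have hxz := hmem.1 x.2
    have hx' : (x : E (prodForm Q Q')) ^ (r ^ i) = 1 := congrArg Subtype.val hi
    have h1 : aa (x : E (prodForm Q Q')) = 1 := congrArg Units.val hx
    exact Subtype.ext (hone _ hxz (haa1 _ hxz h1) (hss _ hxz ⟨i, hx'⟩))
  · rintro x y ⟨i, hi⟩
    have hxz := hmem.1 x.2
    have hyz := hmem.1 y.2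
    have hx' : (x : E (prodForm Q Q')) ^ (r ^ i) = 1 := congrArg Subtype.val hi
    have h1 := hss _ hxz ⟨i, hx'⟩
    have h2 := hT.comm (htO _ hxz) (htO _ hyz) (htz _ hxz) (htz _ hyz)
    apply Subtype.ext
    apply Subtype.ext
    show ((x : E (prodForm Q Q')) : (U × P) ≃ₗ[F] (U × P)) * ((y : E (prodForm Q Q')) : (U × P) ≃ₗ[F] (U × P)) =
      ((y : E (prodForm Q Q')) : (U × P) ≃ₗ[F] (U × P)) * ((x : E (prodForm Q Q')) : (U × P) ≃ₗ[F] (U × P))
    rw [hts _ hxz, hts _ hyz, h1]
    have h3 : ∀ (t t' : U ≃ₗ[F] U) (s s' : P ≃ₗ[F] P), t.prodCongr s * t'.prodCongr s' =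
        (t * t').prodCongr (s * s') := fun _ _ _ _ => rfl
    rw [h3, h3, h2.eq, one_mul, mul_one]
  · intro x hx hxp
    obtain ⟨h1, h2⟩ := hpw x hx p hxp
    have h3 : aa x = 1 := by
      have h4 : aa x ^ p = 1 := by
        have hpow : ∀ k : ℕ, (tt x ^ k) (j 1) = j (aa x ^ k) := by
          intro k
          induction k with
          | zero => simp only [_root_.pow_zero, _root_.LinearEquiv.coe_one, _root_.id_eq]
          | succ k ih =>
            rw [pow_succ', LinearEquiv.mul_apply, ih, haa x hx, pow_succ']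
        have h5 := hpow p
        rw [h1] at h5
        exact (hT.inj h5).symm
      have h5 : (aa x - 1) ^ p = 0 := by rw [sub_pow_char, one_pow, h4, sub_self]
      exact sub_eq_zero.1 (pow_eq_zero_iff hpp.ne_zero |>.1 h5)
    have h4 := haa1 x hx h3
    refine hone x hx h4 ?_
    refine eq_one_of_even (F := F) (p := p) hP h2 ?_
    have h5 := even_E hnd x.2
    have h6 : fix (x : (U × P) ≃ₗ[F] (U × P)) = (⊤ : Submodule F U).prod (fix (ss x)) := by
      ext v
      rw [mem_fix, hts x hx, h4, Submodule.mem_prod, mem_fix]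
      constructor
      · intro h
        exact ⟨Submodule.mem_top, congrArg Prod.snd h⟩
      · rintro ⟨-, h⟩
        exact Prod.ext rfl h
    have h7 : finrank F ((⊤ : Submodule F U).prod (fix (ss x)) : Submodule F (U × P)) =
        finrank F U + finrank F (fix (ss x)) := by
      have e : ((⊤ : Submodule F U).prod (fix (ss x)) : Submodule F (U × P)) ≃ₗ[F] U × fix (ss x) :=
        { toFun := fun v => (v.1.1, ⟨v.1.2, v.2.2⟩)
          invFun := fun v => ⟨(v.1, v.2.1), ⟨Submodule.mem_top, v.2.2⟩⟩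
          map_add' := fun _ _ => rfl
          map_smul' := fun _ _ => rfl
          left_inv := fun _ => rfl
          right_inv := fun _ => rfl }
      rw [e.finrank_eq, finrank_prod]
    rw [h6, h7, finrank_prod] at h5
    have hP2 : Even (finrank F P) := by
      rcases hP with h | h <;> rw [h] <;> decide
    have h8 : Even (2 * finrank F U + finrank F P + finrank F (fix (ss x))) := by
      convert h5 using 1
      ring
    have h9 : Even (2 * finrank F U + finrank F P) := (even_two_mul _).add hP2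
    exact (Nat.even_add.1 h8).1 h9
  · rintro ⟨h1, h2⟩
    refine hnot ⟨h1, ?_⟩
    -- the eigenvalues
    have hjj : Function.Injective ((LinearMap.inl F U P).comp j) := fun a b hab => hT.inj (congrArg Prod.fst hab)
    refine le_of_roots (L := L) (zz P z).toLinearMap hT.ord ?_
    intro m hm0 hm
    have hrm : ¬ r ∣ m := fun h => absurd (Nat.le_of_dvd hm0 h) (not_le.2 hm)
    obtain ⟨g, hg⟩ := isConj_iff.1 (h2 m hrm)
    have hg' : (g : (U × P) ≃ₗ[F] (U × P)) * zz P z * (g : (U × P) ≃ₗ[F] (U × P))⁻¹ = zz P z ^ m :=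
      congrArg Subtype.val hg
    have h3 : (zz P z ^ m).toLinearMap.charpoly = (zz P z).toLinearMap.charpoly := by
      rw [← hg']
      exact LinearEquiv.charpoly_conj (g : (U × P) ≃ₗ[F] (U × P)) (zz P z).toLinearMap
    rw [← h3]
    refine root_charpoly _ (lam ^ m) ((LinearMap.inl F U P).comp j) hjj ?_
    have hpow : ∀ (k : ℕ) (l : L), (zz P z ^ k) (j l, 0) = (j (lam ^ k * l), 0) := by
      intro k
      induction k with
      | zero => intro l; simp only [_root_.pow_zero, _root_.LinearEquiv.coe_one, _root_.id_eq, _root_.one_mul]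
      | succ k ih =>
        intro l
        have h4 : zz P z (j l, 0) = (j (lam * l), 0) := Prod.ext (hT.eig l) rfl
        rw [pow_succ, LinearEquiv.mul_apply, h4, ih, pow_succ, mul_assoc]
    exact fun l => hpow m l

end main

end Cfsg.Agent.H530.OZ
end

-- part: H530/OZ/Tori
section
/-!
# S4842: the tori of the orthogonal groups (helper530)

* `torU_minus` : multiplication by a primitive element of order `r` on a field of degree `2k`;
* `torU_plus` : `(a, b) ↦ (lam a, lam⁻¹ b)` on `L × L`, `[L : F]` odd.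
-/

set_option autoImplicit false

namespace Cfsg.Agent.H530.OZ

open Module QuadraticMap Cfsg Subgroup
open Cfsg.Agent.LieClassical.OrthCore Cfsg.Agent.LieClassical.OrthTrans Cfsg.Agent.H890.SpParity
open Cfsg.Agent.H122.OrthWt
open Cfsg.Agent.H182.Sign Cfsg.Agent.H530.CJ Cfsg.Agent.H93.CJ Cfsg.Agent.H93.PReg Cfsg.Agent.H93.PReg.Orth

section field

variable {F L : Type} [Field F] [Finite F] [Field L] [Finite L] [Algebra F L]

omit [Finite F] in
theorem adjoin_eq_top {r : ℕ} {lam : L} (hlam : lam ≠ 0) (ho : orderOf lam = r)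
    (h : ∀ i : ℕ, 0 < i → i < finrank F L → ¬ r ∣ Nat.card F ^ i - 1) : Algebra.adjoin F {lam} = ⊤ := by
  have hfd : FiniteDimensional F L := Module.Finite.of_finite
  set E := IntermediateField.adjoin F ({lam} : Set L) with hE
  have hmem : lam ∈ E := IntermediateField.mem_adjoin_simple_self F _
  have hdvd : finrank F E * finrank E L = finrank F L := finrank_mul_finrank F E L
  have hpos : 0 < finrank F E := finrank_pos
  have hpos' : 0 < finrank E L := finrank_pos
  have hcE : Nat.card E = Nat.card F ^ finrank F E := Module.natCard_eq_pow_finrank (K := F) (V := E)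
  have hpow : lam ^ (Nat.card E - 1) = 1 := by
    have : Fintype E := Fintype.ofFinite E
    have h1 := FiniteField.pow_card_sub_one_eq_one (⟨lam, hmem⟩ : E) (by
      intro h0
      exact hlam (congrArg Subtype.val h0))
    rw [Nat.card_eq_fintype_card]
    exact congrArg Subtype.val h1
  have h3 : r ∣ Nat.card F ^ finrank F E - 1 := by
    rw [← ho, ← hcE]
    exact orderOf_dvd_of_pow_eq_one hpow
  have h4 : finrank F E = finrank F L := by
    have h5 : finrank F E ≤ finrank F L := by
      rw [← hdvd]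
      exact Nat.le_mul_of_pos_right _ hpos'
    by_contra hne
    exact h _ hpos (lt_of_le_of_ne h5 hne) h3
  have h5 : E = ⊤ := IntermediateField.eq_of_le_of_finrank_eq le_top (by rw [IntermediateField.finrank_top', h4])
  rw [← IntermediateField.adjoin_simple_toSubalgebra_of_isAlgebraic (IsAlgebraic.of_finite F lam), ← hE, h5]
  rfl

omit [Finite F] [Finite L] in
theorem eq_mul' {t : L} (h : Algebra.adjoin F {t} = ⊤) {q : L →ₗ[F] L} (hq : ∀ a, q (t * a) = t * q a) :
    ∀ a, q a = q 1 * a := by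
  let S : Subalgebra F L :=
    { carrier := {s | ∀ a, q (s * a) = s * q a}
      mul_mem' := fun {s s'} hs hs' a => by rw [mul_assoc, hs, hs', mul_assoc]
      add_mem' := fun {s s'} hs hs' a => by rw [add_mul, map_add, hs, hs', add_mul]
      algebraMap_mem' := fun c a => by
        rw [← Algebra.smul_def, map_smul, Algebra.smul_def] }
  have hS : S = ⊤ := by
    rw [eq_top_iff, ← h, Algebra.adjoin_le_iff, Set.singleton_subset_iff]
    exact hq
  intro a
  have h1 : a ∈ S := by rw [hS]; trivial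
  have h2 := h1 1
  rwa [mul_one, mul_comm] at h2

omit [Finite F] in
/-- The torus element on a field. -/
theorem torU_minus {Q : QuadraticForm F L} {r : ℕ} {lam : L} (hlam : lam ≠ 0) (ho : orderOf lam = r)
    (h : ∀ i : ℕ, 0 < i → i < finrank F L → ¬ r ∣ Nat.card F ^ i - 1) (hQ : ∀ v, Q (lam * v) = Q v) :
    TorU Q r (mulL F lam hlam) (LinearMap.id : L →ₗ[F] L) lam where
  inj := fun _ _ h => h
  memO := hQ
  eig := fun _ => rfl
  ord := ho
  cen := by
    intro t _ hc
    have h1 := eq_mul' (adjoin_eq_top hlam ho h) (q := t.toLinearMap) (fun a => LinearEquiv.congr_fun hc.eq a)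
    have h2 : ∀ a, t a = t 1 * a := h1
    refine ⟨t 1, h1, ?_, ?_⟩
    · intro h3
      ext a
      rw [h2, h3, one_mul]
      rfl
    · intro h3 v hv
      rw [h2] at hv
      have h4 : (t 1 - 1) * v = 0 := by linear_combination hv
      exact (mul_eq_zero.1 h4).resolve_left (sub_ne_zero.2 h3)

theorem tor_of_odd {r : ℕ} {lam : L} (hr : r.Prime) (hr2 : r ≠ 2) (hlam : lam ≠ 0) (ho : orderOf lam = r)
    (hodd : Odd (finrank F L))
    (h : ∀ i : ℕ, 0 < i → i < finrank F L → ¬ r ∣ Nat.card F ^ i - 1) : Tor F lam where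
  ne := hlam
  gen := adjoin_eq_top hlam ho h
  inv := by
    intro σ hσ
    have hfd : FiniteDimensional F L := Module.Finite.of_finite
    have := Fintype.ofFinite F
    obtain ⟨i, rfl⟩ := (FiniteField.bijective_frobeniusAlgEquivOfAlgebraic_pow F L).2 σ
    have hfr : ∀ (k : ℕ) (x : L), (FiniteField.frobeniusAlgEquivOfAlgebraic F L ^ k) x = x ^ Fintype.card F ^ k := by
      intro k x
      rw [AlgEquiv.coe_pow, FiniteField.coe_frobeniusAlgEquivOfAlgebraic, pow_iterate]
    have h2 : lam ^ (Fintype.card F ^ i.1 + 1) = 1 := by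
      have h3 : lam ^ (Fintype.card F ^ i.1) = lam⁻¹ := by
        rw [← hfr]
        exact hσ
      rw [pow_succ, h3, inv_mul_cancel₀ hlam]
    have h3 : r ∣ Nat.card F ^ i.1 + 1 := by
      rw [← ho, Nat.card_eq_fintype_card]
      exact orderOf_dvd_of_pow_eq_one h2
    have hF : 0 < Nat.card F := Nat.card_pos
    rcases Nat.eq_zero_or_pos i.1 with h0 | hpos
    · rw [h0, pow_zero] at h3
      exact hr2 ((Nat.prime_dvd_prime_iff_eq hr Nat.prime_two).1 h3)
    · -- the order of `|F|` modulo `r` is the degree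
      have h4 : r ∣ Nat.card F ^ (2 * i.1) - 1 := by
        have h5 : Nat.card F ^ (2 * i.1) - 1 = (Nat.card F ^ i.1 + 1) * (Nat.card F ^ i.1 - 1) := by
          rw [mul_comm 2, pow_mul]
          have := Nat.sq_sub_sq (Nat.card F ^ i.1) 1
          simpa only [_root_.Nat.card_eq_fintype_card, _root_.one_pow] using this
        rw [h5]
        exact Dvd.dvd.mul_right h3 _
      have hfull : r ∣ Nat.card F ^ finrank F L - 1 := by
        have hcL : Nat.card L = Nat.card F ^ finrank F L := Module.natCard_eq_pow_finrank (K := F) (V := L)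
        rw [← hcL, ← ho]
        have : Fintype L := Fintype.ofFinite L
        rw [Nat.card_eq_fintype_card]
        exact orderOf_dvd_of_pow_eq_one (FiniteField.pow_card_sub_one_eq_one lam hlam)
      have hgcd : r ∣ Nat.card F ^ Nat.gcd (2 * i.1) (finrank F L) - 1 := by
        rw [← Nat.pow_sub_one_gcd_pow_sub_one]
        exact Nat.dvd_gcd h4 hfull
      have hi := i.2
      have hg1 : 0 < Nat.gcd (2 * i.1) (finrank F L) := Nat.gcd_pos_of_pos_left _ (by omega)
      have hg2 : Nat.gcd (2 * i.1) (finrank F L) < finrank F L := by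
        rcases Nat.lt_or_ge (Nat.gcd (2 * i.1) (finrank F L)) (finrank F L) with h6 | h6
        · exact h6
        · exfalso
          have h7 : Nat.gcd (2 * i.1) (finrank F L) = finrank F L :=
            le_antisymm (Nat.gcd_le_right _ (by omega)) h6
          have h8 : finrank F L ∣ 2 * i.1 := by
            have := Nat.gcd_dvd_left (2 * i.1) (finrank F L)
            rwa [h7] at this
          have h9 : finrank F L ∣ i.1 := (Nat.Coprime.dvd_mul_left (Nat.coprime_two_right.2 hodd)).1 h8
          exact absurd (Nat.le_of_dvd hpos h9) (not_le.2 hi)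
      exact h _ hg1 hg2 hgcd

/-- The torus element on `L × L`. -/
theorem torU_plus {r : ℕ} {lam : Lˣ} (hn : 2 ≤ finrank F L) (hT : Tor F (lam : L)) (ho : orderOf (lam : L) = r) :
    TorU (tq F L) r (dw lam) (LinearMap.inl F L L) (lam : L) where
  inj := LinearMap.inl_injective
  memO := dw_mem_O lam
  eig := by
    intro l
    exact Prod.ext rfl (mul_zero _)
  ord := ho
  cen := by
    intro t ht hc
    have hfd : FiniteDimensional F L := Module.Finite.of_finite
    obtain ⟨α, h1⟩ : ∃ α : Lˣ, t = dw α := by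
      have h1 : (t.prodCongr (LinearEquiv.refl F (F × F)) : VV F L ≃ₗ[F] VV F L) ∈ O (HQ (tq F L)) := by
        intro p
        show tq F L (t p.1) + p.2.1 * p.2.2 = tq F L p.1 + p.2.1 * p.2.2
        rw [ht]
      have h2 : (t.prodCongr (LinearEquiv.refl F (F × F)) : VV F L ≃ₗ[F] VV F L) * dg 1 lam =
          dg 1 lam * t.prodCongr (LinearEquiv.refl F (F × F)) := by
        refine LinearEquiv.ext fun p => Prod.ext ?_ rfl
        exact LinearEquiv.congr_fun hc.eq p.1
      obtain ⟨α, ⟨c, h3⟩ | ⟨c, h3⟩⟩ := cent hn hT h1 h2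
      · refine ⟨α, LinearEquiv.ext fun p => ?_⟩
        exact congrArg Prod.fst (LinearEquiv.congr_fun h3 (p, 0))
      · refine ⟨α, LinearEquiv.ext fun p => ?_⟩
        exact congrArg Prod.fst (LinearEquiv.congr_fun h3 (p, 0))
    refine ⟨α, ?_, ?_, ?_⟩
    · intro l
      rw [h1]
      exact Prod.ext rfl (mul_zero _)
    · intro h2
      rw [h1]
      have h3 : α = 1 := Units.ext h2
      rw [h3]
      refine LinearEquiv.ext fun p => ?_
      rw [dw_apply]
      simp
    · intro h2 v hv
      rw [h1, dw_apply] at hv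
      have e1 : (α : L) * v.1 = v.1 := congrArg Prod.fst hv
      have e2 : ((α⁻¹ : Lˣ) : L) * v.2 = v.2 := congrArg Prod.snd hv
      have h3 : ((α⁻¹ : Lˣ) : L) ≠ 1 := by
        intro h
        apply h2
        rw [← Units.val_one, Units.ext_iff.symm] at h ⊢
        exact inv_eq_one.1 h
      refine Prod.ext ?_ ?_
      · have h4 : ((α : L) - 1) * v.1 = 0 := by linear_combination e1
        exact (mul_eq_zero.1 h4).resolve_left (sub_ne_zero.2 h2)
      · have h4 : (((α⁻¹ : Lˣ) : L) - 1) * v.2 = 0 := by linear_combination e2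
        exact (mul_eq_zero.1 h4).resolve_left (sub_ne_zero.2 h3)

end field

/-- The norm torus. -/
theorem exists_torusM (F : Type) [Field F] [Fintype F] {k : ℕ} (hk : k ≠ 0) :
    ∃ (L : Type) (_ : Field L) (_ : Algebra F L) (_ : Finite L) (Q : QuadraticForm F L) (u : L),
      Sg Q k (-1) ∧ orderOf u = Fintype.card F ^ k + 1 ∧ ∀ v, Q (u * v) = Q v := by
  obtain ⟨K, _, _, b, hKf, -, hK, -⟩ := Singer.exists_ext F k hk
  have := Fintype.ofFinite K
  obtain ⟨L, _, _, b', hLf, g, hL, hg⟩ := Singer.exists_ext K 2 two_ne_zero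
  let _ : Algebra F L := ((algebraMap K L).comp (algebraMap F K)).toAlgebra
  have : IsScalarTower F K L := IsScalarTower.of_algebraMap_eq fun _ => rfl
  have hKc : Fintype.card K = Fintype.card F ^ k := by rw [← hK, Nat.card_eq_fintype_card]
  have hq : 2 ≤ Fintype.card K := Fintype.one_lt_card
  have hrk : Module.finrank F K = k := by rw [Module.finrank_eq_card_basis b, Fintype.card_fin]
  have hs := (sg_normQ b').res (F := F)
  rw [hrk, mul_one] at hs
  have hnorm : Algebra.norm K ((g : L) ^ (Fintype.card K - 1)) = 1 := by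
    rw [map_pow]
    apply FiniteField.pow_card_sub_one_eq_one
    rw [Ne, Algebra.norm_eq_zero_iff_of_basis b']
    exact g.ne_zero
  have ho : orderOf ((g : L) ^ (Fintype.card K - 1)) = Fintype.card F ^ k + 1 := by
    rw [← Units.val_pow_eq_pow_val, orderOf_units, orderOf_pow_of_dvd (by omega), hg, ← hKc]
    · have h1 : Fintype.card K ^ 2 - 1 = (Fintype.card K + 1) * (Fintype.card K - 1) := by
        have := Nat.sq_sub_sq (Fintype.card K) 1
        simpa only [_root_.one_pow] using this
      rw [h1, Nat.mul_div_cancel _ (by omega)]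
    · rw [hg]
      simpa only [_root_.one_pow] using Nat.sub_dvd_pow_sub_pow (Fintype.card K) 1 2
  refine ⟨L, inferInstance, inferInstance, inferInstance, traceForm F (normQ b'), _, hs, ho, ?_⟩
  intro v
  rw [traceForm_apply, traceForm_apply]
  congr 1
  rw [normQ_apply, normQ_apply, map_mul, hnorm, one_mul]

end Cfsg.Agent.H530.OZ
end
end

-- part: H530/OZ/Geo
section
prune_inst 0x104074220000000020800320000034000490000b0000404002420009000180000e0002302001c0800001000000600200011040000000002000000001000080005002b3180d04040017000180000000000000300000000000000000000000000000000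
set_option linter.all false
open scoped Cfsg.Agent.FastGrp

/-!
# S4842: isolated primes of `POmega⁻` and `POmega⁺` (helper530)

* `isoM` : a prime dividing `q ^ k + 1` and no `q ^ i - 1`, `i < 2k`, in dimension `2k` or `2k + 2`;
* `isoP` : a prime dividing `q ^ k - 1`, `k` odd, and no `q ^ i - 1`, `i < k`, in dimension `2k` (sign `+`).
-/

set_option autoImplicit false

namespace Cfsg.Agent.H530.OZ

open Module QuadraticMap Cfsg Subgroup
open Cfsg.Agent.LieClassical.OrthCore Cfsg.Agent.LieClassical.OrthTrans Cfsg.Agent.H890.SpParity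
open Cfsg.Agent.LieClassical.OrthFinite
open Cfsg.Agent.H182.Sign Cfsg.Agent.H182.Orth Cfsg.Agent.H530.CJ Cfsg.Agent.H93.CJ Cfsg.Agent.H93.PReg

section num

theorem num1 {k : ℕ} (hk : 4 ≤ k) : 2 * k + 2 < 2 ^ k := by
  induction k, hk using Nat.le_induction with
  | base => norm_num
  | succ k hk ih => rw [pow_succ]; omega

theorem num2 {k : ℕ} (hk : 3 ≤ k) : 4 * k + 5 < 3 ^ k := by
  induction k, hk using Nat.le_induction with
  | base => norm_num
  | succ k hk ih => rw [pow_succ]; omega

theorem num3 {k : ℕ} (hk : 4 ≤ k) : 8 * k + 5 < 3 ^ k := by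
  induction k, hk using Nat.le_induction with
  | base => norm_num
  | succ k hk ih => rw [pow_succ]; omega

/-- odd divisors of `2 ^ a r` -/
theorem dvd_of_even {q k r : ℕ} (hk : 0 < k) (hq : Even q) {a : ℕ} (h : q ^ k + 1 ∣ 2 ^ a * r) : q ^ k + 1 ∣ r := by
  refine Nat.Coprime.dvd_of_dvd_mul_left ?_ h
  refine Nat.Coprime.pow_right a ?_
  rw [Nat.coprime_two_right]
  exact (hq.pow_of_ne_zero hk.ne').add_one

theorem numM {q k j r : ℕ} (hq : 2 ≤ q) (hk : 3 ≤ k) (hj : j = 0 ∨ j = 1) (hkj : j = 0 → 4 ≤ k) (hr : r.Prime)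
    (hle : r ≤ 2 * (k + j) + 1) (h4 : q ^ k + 1 ∣ 4 * r) (h2 : j = 1 → q ^ k + 1 ∣ 2 * r) : False := by
  have hr0 : 0 < r := hr.pos
  have hq2 : 2 ^ k ≤ q ^ k := Nat.pow_le_pow_left hq k
  rcases Nat.even_or_odd q with he | ho
  · have h5 : q ^ k + 1 ∣ r := dvd_of_even (a := 2) (by omega) he h4
    have h6 := Nat.le_of_dvd hr0 h5
    rcases Nat.lt_or_ge k 4 with hk4 | hk4
    · obtain rfl : k = 3 := by omega
      have hj1 : j = 1 := by omega
      have hq8 : q = 2 := by
        by_contra hne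
        have h7 : 3 ≤ q := by omega
        have h8 : 3 ^ 3 ≤ q ^ 3 := Nat.pow_le_pow_left h7 3
        omega
      subst hq8
      have h9 : r = 9 := by omega
      rw [h9] at hr
      exact absurd hr (by norm_num)
    · have := num1 hk4
      omega
  · have hq3 : 3 ≤ q := by
      rcases ho with ⟨m, hm⟩
      omega
    have h7 : 3 ^ k ≤ q ^ k := Nat.pow_le_pow_left hq3 k
    rcases hj with rfl | rfl
    · have := num3 (hkj rfl)
      have := Nat.le_of_dvd (by omega) h4
      omega
    · have := num2 hk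
      have := Nat.le_of_dvd (by omega) (h2 rfl)
      omega

theorem numP {q k r : ℕ} (hq : 2 ≤ q) (hk : 5 ≤ k) (hr : r.Prime)
    (hle : r ≤ 2 * k + 1) (h4 : q ^ k - 1 ∣ 4 * r) : False := by
  have hr0 : 0 < r := hr.pos
  have hq2 : 2 ^ k ≤ q ^ k := Nat.pow_le_pow_left hq k
  have h1 := num1 (k := k) (by omega)
  rcases Nat.even_or_odd q with he | ho
  · have h5 : q ^ k - 1 ∣ r := by
      refine Nat.Coprime.dvd_of_dvd_mul_left (m := 4) ?_ h4
      refine Nat.Coprime.pow_right (m := 2) 2 ?_
      rw [Nat.coprime_two_right]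
      exact Nat.Even.sub_odd (by omega) (he.pow_of_ne_zero (by omega)) odd_one
    have h6 := Nat.le_of_dvd hr0 h5
    omega
  · have hq3 : 3 ≤ q := by
      rcases ho with ⟨m, hm⟩
      omega
    have h7 : 3 ^ k ≤ q ^ k := Nat.pow_le_pow_left hq3 k
    have := num3 (k := k) (by omega)
    have := Nat.le_of_dvd (by omega) h4
    omega

end num

section cover

variable {F : Type} [Field F] [Finite F] {V : Type} [AddCommGroup V] [Module F V] [Finite V]
  {Q : QuadraticForm F V} {n : ℕ} {ε : ℤ}

theorem exists_pi' (hQ : Sg Q n ε) (hn : 3 ≤ n) {ι : Type} [Fintype ι] [DecidableEq ι] {R : QuadraticForm F (ι → F)}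
    (hR : Sg R n ε) {S : Type*} [Group S] (i : POmega F ⇑R ≃* S) :
    Good Q ∧ ∃ π : E Q →* S, Function.Surjective π ∧
      ∀ z : E Q, z ∈ π.ker ↔ ∃ a : F, ∀ v, (z : V ≃ₗ[F] V) v = a • v := by
  have hGQ : Good Q := good_of_finite hQ.nondeg (by rw [hQ.dim]; omega)
  have hGR : Good R := good_of_finite hR.nondeg (by rw [hR.dim]; omega)
  obtain ⟨e, he⟩ := hR.exists_equiv hQ
  have hGR' : Good ((1 : F) • R) := by rwa [one_smul]
  exact ⟨hGQ, exists_pi hGR hGR' e one_ne_zero (fun u => by rw [he, one_mul]) hGQ i⟩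

end cover

section M

variable {F : Type} [Field F] [Fintype F] {U P : Type} [AddCommGroup U] [Module F U] [Finite U] [AddCommGroup P]
  [Module F P] [Finite P] {Q : QuadraticForm F U} {Q' : QuadraticForm F P}

omit [Fintype F] in
theorem sq_mem [Finite F] (hG : Good (prodForm Q Q')) {t : U ≃ₗ[F] U} (ht : t ∈ O Q) :
    zz P (t ^ 2) ∈ E (prodForm Q Q') := by
  have h1 := Cfsg.Agent.ETable.Orth.sq_mem_E hG (zz_mem_O (Q' := Q') ht)
  rwa [← pow_two, zz_pow] at h1

omit [Fintype F] in
theorem mem_of_odd [Finite F] (hG : Good (prodForm Q Q')) {t : U ≃ₗ[F] U} (ht : t ∈ O Q) {r : ℕ} (hr : Odd r)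
    (h : t ^ r = 1) : zz P t ∈ E (prodForm Q Q') := by
  obtain ⟨m, hm⟩ := hr
  have h1 : t = (t ^ (m + 1)) ^ 2 := by
    rw [← pow_mul, show (m + 1) * 2 = r + 1 by omega, pow_succ, h, one_mul]
  rw [h1]
  exact sq_mem hG ((O Q).pow_mem ht _)

omit [Fintype F] [Finite U] [Finite P] in
/-- Scalars from the kernel. -/
theorem scal [Finite F] {S : Type*} [Group S] {π : E (prodForm Q Q') →* S}
    (hker : ∀ k : E (prodForm Q Q'), k ∈ π.ker ↔ ∃ a : F, ∀ v, (k : (U × P) ≃ₗ[F] (U × P)) v = a • v)
    (hnd : Nondeg (prodForm Q Q')) (hne : Nontrivial (U × P)) {r : ℕ} {t : U ≃ₗ[F] U}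
    (htE : zz P t ∈ E (prodForm Q Q')) (h : (π ⟨zz P t, htE⟩) ^ r = 1) :
    ∃ a : F, a * a = 1 ∧ (∀ v, (t ^ r) v = a • v) ∧ (Nontrivial P → a = 1) := by
  have h1 : (⟨zz P t, htE⟩ : E (prodForm Q Q')) ^ r ∈ π.ker := by
    rw [MonoidHom.mem_ker, map_pow, h]
  obtain ⟨a, ha⟩ := (hker _).1 h1
  have h2 : ∀ v : U × P, (zz P (t ^ r)) v = a • v := by
    intro v
    rw [← zz_pow]
    exact ha v
  refine ⟨a, ?_, fun v => ?_, ?_⟩
  · obtain ⟨w, hw⟩ : ∃ w : U × P, prodForm Q Q' w ≠ 0 := by
      by_contra hcon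
      push Not at hcon
      obtain ⟨v, hv⟩ := exists_ne (0 : U × P)
      apply hv
      exact hnd _ fun y => by rw [QuadraticMap.polar, hcon, hcon, hcon, sub_zero, sub_zero]
    have h3 := E_le_O ((⟨zz P t, htE⟩ : E (prodForm Q Q')) ^ r).2 w
    rw [ha, QuadraticMap.map_smul, smul_eq_mul] at h3
    apply mul_right_cancel₀ hw
    rw [h3, one_mul]
  · exact congrArg Prod.fst (h2 (v, 0))
  · intro hP
    obtain ⟨w, hw⟩ := exists_ne (0 : P)
    have h3 : w = a • w := congrArg Prod.snd (h2 (0, w))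
    have h4 : (1 - a) • w = 0 := by rw [sub_smul, one_smul, ← h3, sub_self]
    exact (sub_eq_zero.1 ((smul_eq_zero.1 h4).resolve_right hw)).symm

end M

/-- **Primes dividing `q ^ k + 1`.** -/
theorem isoM {F : Type} [Field F] [Fintype F] {p : ℕ} [Fact p.Prime] [CharP F p] {k : ℕ} {P : Type} [AddCommGroup P]
    [Module F P] [Finite P] {Q' : QuadraticForm F P} {j : ℕ} {δ : ℤ} (hQ' : Sg Q' j δ) (hj : j = 0 ∨ j = 1)
    (hk : 3 ≤ k) (hkj : j = 0 → 4 ≤ k) {ι : Type} [Fintype ι] [DecidableEq ι] {R : QuadraticForm F (ι → F)}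
    (hR : Sg R (k + j) (-1 * δ)) {S : Type*} [Group S] (i : POmega F ⇑R ≃* S) {r : ℕ} (hr : r.Prime)
    (hr1 : r ∣ Fintype.card F ^ k + 1) (hr2 : ∀ i : ℕ, 0 < i → i < 2 * k → ¬ r ∣ Fintype.card F ^ i - 1) :
    IsoAt p r S := by
  obtain ⟨L, _, _, _, Q, u, hQ, hu, huQ⟩ := exists_torusM F (k := k) (by omega)
  obtain ⟨hG, π, hπ, hker⟩ := exists_pi' (hQ.prod hQ') (by omega) hR i
  have hdL : finrank F L = 2 * k := hQ.dim
  have hcF : Nat.card F = Fintype.card F := Nat.card_eq_fintype_card
  have hF : 2 ≤ Fintype.card F := Fintype.one_lt_card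
  have hu0 : u ≠ 0 := by
    rintro rfl
    have h1 := pow_orderOf_eq_one (0 : L)
    rw [hu, pow_succ, mul_zero] at h1
    exact zero_ne_one h1
  obtain ⟨s, hs⟩ := hr1
  have hs0 : s ≠ 0 := by
    rintro rfl
    omega
  set lam : L := u ^ s with hlam
  have hlam0 : lam ≠ 0 := pow_ne_zero _ hu0
  have hlamo : orderOf lam = r := by
    rw [hlam, orderOf_pow_of_dvd hs0 (by rw [hu, hs]; exact Dvd.intro_left r rfl), hu, hs,
      Nat.mul_div_cancel _ (Nat.pos_of_ne_zero hs0)]
  have hpowQ : ∀ (m : ℕ) (v : L), Q (u ^ m * v) = Q v := by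
    intro m
    induction m with
    | zero => intro v; rw [pow_zero, one_mul]
    | succ m ih => intro v; rw [pow_succ', mul_assoc, huQ, ih]
  have hT := torU_minus hlam0 hlamo (by
    intro i hi hi2
    rw [hcF]
    rw [hdL] at hi2
    exact hr2 i hi hi2) (hpowQ s)
  have hr2' : r ≠ 2 := by
    rintro rfl
    rcases Nat.even_or_odd (Fintype.card F) with h | h
    · have h1 : Odd (Fintype.card F ^ k + 1) := (h.pow_of_ne_zero (by omega)).add_one
      rw [hs] at h1
      exact (Nat.not_odd_iff_even.2 (even_two_mul s)) h1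
    · have h1 := hr2 1 one_pos (by omega)
      rw [pow_one] at h1
      exact h1 (Nat.Odd.sub_odd h odd_one).two_dvd
  have hodd : Odd r := hr.odd_of_ne_two hr2'
  have hPd : finrank F P = 2 * j := hQ'.dim
  refine iso_orth (p := p) hr hT (hQ.prod hQ').nondeg (by rw [hPd]; omega) ?_ ?_ ?_
    (mem_of_odd hG hT.memO hodd hT.pow_eq) π hπ hker ?_
  · rw [hcF]
    intro h1
    have h2 : r ∣ 1 := (Nat.dvd_add_right (Dvd.dvd.pow h1 (by omega))).1 ⟨s, hs⟩
    exact hr.one_lt.ne' (Nat.dvd_one.1 h2)
  · rw [hcF]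
    have h1 := hr2 1 one_pos (by omega)
    rwa [pow_one] at h1
  · rw [hcF]
    exact hr2 2 two_pos (by omega)
  · rintro ⟨h1, h2⟩
    have hmO : mulL F u hu0 ∈ O Q := huQ
    have h3 := h1 ⟨zz P (mulL F u hu0 ^ 2), sq_mem hG hmO⟩ (by
      apply Subtype.ext
      show zz P (mulL F lam hlam0) * zz P (mulL F u hu0 ^ 2) = zz P (mulL F u hu0 ^ 2) * zz P (mulL F lam hlam0)
      refine LinearEquiv.ext fun v => Prod.ext ?_ rfl
      show lam * (u * (u * v.1)) = u * (u * (lam * v.1))
      ring)
    have hnt : Nontrivial L := inferInstance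
    have hnt' : Nontrivial (L × P) := inferInstance
    obtain ⟨a, ha2, ha, haP⟩ := scal hker (hQ.prod hQ').nondeg hnt' _ h3
    have hpw : ∀ (m : ℕ) (v : L), (mulL F u hu0 ^ m) v = u ^ m * v := by
      intro m
      induction m with
      | zero => intro v; rw [pow_zero, pow_zero, one_mul]; rfl
      | succ m ih =>
        intro v
        rw [pow_succ', LinearEquiv.mul_apply, ih, mulL_apply, pow_succ', mul_assoc]
    have h4 : u ^ (2 * r) = a • (1 : L) := by
      have h5 := ha 1
      rw [← pow_mul, hpw, mul_one] at h5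
      exact h5
    refine numM hF hk hj hkj hr ?_ ?_ ?_
    · rw [finrank_prod, hdL, hPd] at h2
      omega
    · rw [← hu]
      apply orderOf_dvd_of_pow_eq_one
      rw [show 4 * r = 2 * r * 2 by ring, pow_mul, h4, smul_pow, one_pow, pow_two, ha2, one_smul]
    · intro hj1
      rw [← hu]
      apply orderOf_dvd_of_pow_eq_one
      rw [h4, haP (Module.nontrivial_of_finrank_pos (R := F) (by rw [hPd]; omega)), one_smul]

/-- the zero space -/
theorem sg_zero (F : Type) [Field F] [Finite F] : Sg (0 : QuadraticForm F PUnit.{1}) 0 1 :=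
  ⟨fun _ _ => Subsingleton.elim _ _, by rw [mul_zero]; exact Module.finrank_zero_of_subsingleton,
    hasSign_zero _ (fun _ => rfl), Or.inl rfl⟩

/-- the hyperbolic trace form -/
theorem sg_tq (F K : Type) [Field F] [Finite F] [Field K] [Finite K] [Algebra F K] {k : ℕ} (hk : finrank F K = k) :
    Sg (tq F K) k 1 := by
  have hs := (sg_hypForm (F := K)).res (F := F)
  rw [hk, mul_one] at hs
  exact hs.congr (LinearEquiv.refl F (K × K)) fun v => rfl

theorem dw_pow {F K : Type} [Field F] [Field K] [Algebra F K] (u : Kˣ) (m : ℕ) :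
    (dw u : (K × K) ≃ₗ[F] (K × K)) ^ m = dw (u ^ m) := by
  induction m with
  | zero =>
    refine LinearEquiv.ext fun v => ?_
    rw [pow_zero, pow_zero, dw_apply, inv_one, Units.val_one, one_mul, one_mul]
    rfl
  | succ m ih =>
    refine LinearEquiv.ext fun v => ?_
    rw [pow_succ, LinearEquiv.mul_apply, ih, dw_apply, dw_apply, dw_apply, pow_succ, Units.val_mul, mul_inv,
      Units.val_mul, mul_assoc, mul_assoc]

/-- **Primes dividing `q ^ k - 1`, `k` odd.** -/
theorem isoP {F : Type} [Field F] [Fintype F] {p : ℕ} [Fact p.Prime] [CharP F p] {k : ℕ}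
    (hk : 5 ≤ k) (hodd : Odd k) {ι : Type} [Fintype ι] [DecidableEq ι] {R : QuadraticForm F (ι → F)}
    (hR : Sg R k 1) {S : Type*} [Group S] (i : POmega F ⇑R ≃* S) {r : ℕ} (hr : r.Prime)
    (hr1 : r ∣ Fintype.card F ^ k - 1) (hr2 : ∀ i : ℕ, 0 < i → i < k → ¬ r ∣ Fintype.card F ^ i - 1) :
    IsoAt p r S := by
  obtain ⟨K, _, _, b, hKf, y, hK, hy⟩ := Singer.exists_ext F k (by omega)
  have hrk : Module.finrank F K = k := by rw [Module.finrank_eq_card_basis b, Fintype.card_fin]
  have hQ := sg_tq F K hrk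
  have hQ' := sg_zero F
  obtain ⟨hG, π, hπ, hker⟩ := exists_pi' (hQ.prod hQ') (by omega) (by rw [add_zero, mul_one]; exact hR) i
  have hcF : Nat.card F = Fintype.card F := Nat.card_eq_fintype_card
  have hF : 2 ≤ Fintype.card F := Fintype.one_lt_card
  have hFk : 2 ^ k ≤ Fintype.card F ^ k := Nat.pow_le_pow_left hF k
  have h2k := num1 (k := k) (by omega)
  obtain ⟨s, hs⟩ := hr1
  have hs0 : s ≠ 0 := by
    rintro rfl
    omega
  set lam : Kˣ := y ^ s with hlam
  have hlamo : orderOf (lam : K) = r := by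
    rw [orderOf_units, hlam, orderOf_pow_of_dvd hs0 (by rw [hy, hs]; exact Dvd.intro_left r rfl), hy, hs,
      Nat.mul_div_cancel _ (Nat.pos_of_ne_zero hs0)]
  have hr2' : r ≠ 2 := by
    rintro rfl
    rcases Nat.even_or_odd (Fintype.card F) with h | h
    · have h1 : Odd (Fintype.card F ^ k - 1) := Nat.Even.sub_odd (by omega) (h.pow_of_ne_zero (by omega)) odd_one
      rw [hs] at h1
      exact (Nat.not_odd_iff_even.2 (even_two_mul s)) h1
    · have h1 := hr2 1 one_pos (by omega)
      rw [pow_one] at h1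
      exact h1 (Nat.Odd.sub_odd h odd_one).two_dvd
  have hT := torU_plus (F := F) (r := r) (lam := lam) (by omega) (tor_of_odd hr hr2' lam.ne_zero hlamo (by rwa [hrk]) (by
    intro i hi hi2
    rw [hcF]
    rw [hrk] at hi2
    exact hr2 i hi hi2)) hlamo
  have hr2'' : Odd r := hr.odd_of_ne_two hr2'
  have hPd : finrank F PUnit.{1} = 0 := Module.finrank_zero_of_subsingleton
  refine iso_orth (p := p) hr hT (hQ.prod hQ').nondeg (Or.inl hPd) ?_ ?_ ?_
    (mem_of_odd hG hT.memO hr2'' hT.pow_eq) π hπ hker ?_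
  · rw [hcF]
    intro h1
    have h3 : Fintype.card F ^ k = r * s + 1 := by omega
    have h2 : r ∣ 1 := (Nat.dvd_add_right (Dvd.intro s rfl)).1 (h3 ▸ Dvd.dvd.pow h1 (by omega))
    exact hr.one_lt.ne' (Nat.dvd_one.1 h2)
  · rw [hcF]
    have h1 := hr2 1 one_pos (by omega)
    rwa [pow_one] at h1
  · rw [hcF]
    exact hr2 2 two_pos (by omega)
  · rintro ⟨h1, h2⟩
    have h3 := h1 ⟨zz PUnit (dw y ^ 2), sq_mem hG (dw_mem_O y)⟩ (by
      apply Subtype.ext
      show zz PUnit (dw lam) * zz PUnit (dw y ^ 2) = zz PUnit (dw y ^ 2) * zz PUnit (dw lam)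
      refine LinearEquiv.ext fun v => Prod.ext ?_ rfl
      show (dw lam : (K × K) ≃ₗ[F] (K × K)) ((dw y ^ 2 : (K × K) ≃ₗ[F] (K × K)) v.1) =
        (dw y ^ 2 : (K × K) ≃ₗ[F] (K × K)) ((dw lam : (K × K) ≃ₗ[F] (K × K)) v.1)
      rw [dw_pow, dw_apply, dw_apply, dw_apply, dw_apply]
      refine Prod.ext ?_ ?_
      · show (lam : K) * (((y ^ 2 : Kˣ) : K) * v.1.1) = ((y ^ 2 : Kˣ) : K) * ((lam : K) * v.1.1)
        ring
      · show ((lam⁻¹ : Kˣ) : K) * ((((y ^ 2)⁻¹ : Kˣ) : K) * v.1.2) = (((y ^ 2)⁻¹ : Kˣ) : K) * (((lam⁻¹ : Kˣ) : K) * v.1.2)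
        ring)
    have hnt' : Nontrivial ((K × K) × PUnit.{1}) := inferInstance
    obtain ⟨a, ha2, ha, -⟩ := scal hker (hQ.prod hQ').nondeg hnt' _ h3
    have h4 : ((y ^ (2 * r) : Kˣ) : K) = a • (1 : K) := by
      have h5 := ha (1, 0)
      rw [← pow_mul, dw_pow, dw_apply] at h5
      have h6 := congrArg Prod.fst h5
      rw [mul_one] at h6
      exact h6
    refine numP hF hk hr ?_ ?_
    · rw [finrank_prod, hPd, hQ.dim] at h2
      omega
    · rw [← hy]
      apply orderOf_dvd_of_pow_eq_one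
      apply Units.ext
      rw [show 4 * r = 2 * r * 2 by ring, pow_mul, Units.val_pow_eq_pow_val, h4, smul_pow, one_pow, pow_two, ha2,
        one_smul, Units.val_one]

/-- **The exception `POmega⁻_8 (2)`, `r = 7`.** -/
theorem isoE {F : Type} [Field F] [Fintype F] (hF2 : Fintype.card F = 2) {p : ℕ} [Fact p.Prime] [CharP F p]
    {ι : Type} [Fintype ι] [DecidableEq ι] {R : QuadraticForm F (ι → F)}
    (hR : Sg R 4 (-1)) {S : Type*} [Group S] (i : POmega F ⇑R ≃* S) : IsoAt p 7 S := by
  obtain ⟨K, _, _, b, hKf, y, hK, hy⟩ := Singer.exists_ext F 3 (by omega)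
  have hrk : Module.finrank F K = 3 := by rw [Module.finrank_eq_card_basis b, Fintype.card_fin]
  have hQ := sg_tq F K hrk
  obtain ⟨L, _, _, _, Q', u, hQ', hu, huQ⟩ := exists_torusM F (k := 1) one_ne_zero
  obtain ⟨hG, π, hπ, hker⟩ := exists_pi' (hQ.prod hQ') (by omega) (by rw [one_mul]; exact hR) i
  have hcF : Nat.card F = 2 := by rw [Nat.card_eq_fintype_card, hF2]
  have hy7 : orderOf (y : K) = 7 := by
    rw [orderOf_units, hy, hF2]
    norm_num
  have h7 : Nat.Prime 7 := by norm_num
  have hT := torU_plus (F := F) (r := 7) (lam := y) (by omega) (tor_of_odd h7 (by norm_num) y.ne_zero hy7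
    (by rw [hrk]; decide) (by
    intro i hi hi2
    rw [hcF]
    rw [hrk] at hi2
    have hi3 : i = 1 ∨ i = 2 := by omega
    rcases hi3 with rfl | rfl <;> norm_num)) hy7
  have hPd : finrank F L = 2 := by rw [hQ'.dim]
  refine iso_orth (p := p) h7 hT (hQ.prod hQ').nondeg (Or.inr hPd) ?_ ?_ ?_
    (mem_of_odd hG hT.memO (by decide) hT.pow_eq) π hπ hker ?_
  · rw [hcF]; norm_num
  · rw [hcF]; norm_num
  · rw [hcF]; norm_num
  · rintro ⟨h1, -⟩
    have hu0 : u ≠ 0 := by
      rintro rfl
      have h1 := pow_orderOf_eq_one (0 : L)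
      rw [hu, pow_succ, mul_zero] at h1
      exact zero_ne_one h1
    set T : ((K × K) × L) ≃ₗ[F] ((K × K) × L) := (LinearEquiv.refl F (K × K)).prodCongr (mulL F u hu0) with hTdef
    have hTO : T ∈ O (prodForm (tq F K) Q') := by
      intro v
      rw [prodForm_apply, prodForm_apply]
      show tq F K v.1 + Q' (u * v.2) = _
      rw [huQ]
    have hTE := Cfsg.Agent.ETable.Orth.sq_mem_E hG hTO
    have h3 := h1 ⟨T * T, hTE⟩ (by
      apply Subtype.ext
      show zz L (dw y) * (T * T) = T * T * zz L (dw y)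
      rfl)
    have h4 : (⟨T * T, hTE⟩ : E (prodForm (tq F K) Q')) ^ 7 ∈ π.ker := by
      rw [MonoidHom.mem_ker, map_pow, h3]
    obtain ⟨a, ha⟩ := (hker _).1 h4
    have h5 : ∀ (m : ℕ) (v : (K × K) × L), ((T * T) ^ m) v = (v.1, u ^ (2 * m) * v.2) := by
      intro m
      induction m with
      | zero => intro v; rw [pow_zero, mul_zero, pow_zero, one_mul]; rfl
      | succ m ih =>
        intro v
        rw [pow_succ', LinearEquiv.mul_apply, ih]
        refine Prod.ext rfl ?_
        show u * (u * (u ^ (2 * m) * v.2)) = u ^ (2 * (m + 1)) * v.2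
        ring
    have h6 : ∀ v : (K × K) × L, ((T * T) ^ 7) v = a • v := ha
    have h8 : a • (1 : K) = 1 := by
      have h9 := h6 ((1, 0), 0)
      rw [h5] at h9
      exact (congrArg (fun v : (K × K) × L => v.1.1) h9).symm
    have ha1 : a = 1 := by
      have h9 : (a - 1) • (1 : K) = 0 := by rw [sub_smul, h8, one_smul, sub_self]
      exact sub_eq_zero.1 ((smul_eq_zero.1 h9).resolve_right one_ne_zero)
    have h9 := h6 (0, 1)
    rw [h5, ha1, one_smul] at h9
    have h10 : u ^ (2 * 7) * 1 = 1 := congrArg Prod.snd h9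
    rw [mul_one] at h10
    have h11 := orderOf_dvd_of_pow_eq_one h10
    rw [hu, hF2] at h11
    revert h11
    decide

end Cfsg.Agent.H530.OZ
end
end
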